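import Mathlib

/-!
Quadratic extensions of a polynomial ring.
-/

set_option autoImplicit false
universe u

namespace Prym13

open Polynomial TensorProduct

variable {R : Type u} [CommRing R] [IsDomain R]

/-- The generic rank. -/
theorem finrank_adjoinRoot (h : R[X]) :
    Module.finrank (FractionRing R) (FractionRing R ⊗[R] AdjoinRoot h) = h.natDegree := by
  let T := FractionRing R
  let e₁ := AdjoinRoot.tensorAlgEquiv (R := R) (T := T) h
    (h.map (Algebra.TensorProduct.includeRight (R := R) (A := T) (B := R)).toRingHom) rfl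
  let e₂ := AdjoinRoot.mapAlgEquiv (Algebra.TensorProduct.rid R T T)
    (h.map (Algebra.TensorProduct.includeRight (R := R) (A := T) (B := R)).toRingHom) (h.map (algebraMap R T))
    (by
      refine Associated.of_eq ?_
      rw [Polynomial.map_map]
      congr 1
      ext r
      simp [Algebra.smul_def])
  rw [(e₁.trans e₂).toLinearEquiv.finrank_eq]
  refine Eq.trans ?_ (Polynomial.natDegree_map_eq_of_injective (IsFractionRing.injective R T) h)
  exact finrank_quotient_span_eq_natDegree

/-- Localised finiteness of the projection. -/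
theorem integral_iff (h : R[X]) (hdeg : 0 < h.natDegree) (S : Submonoid R) :
    Algebra.IsIntegral (Localization S) (Localization (Algebra.algebraMapSubmonoid (AdjoinRoot h) S))
      ↔ IsUnit (algebraMap R (Localization S) h.leadingCoeff) := by
  set A := AdjoinRoot h
  set T := Localization S
  set B := Localization (Algebra.algebraMapSubmonoid A S)
  constructor
  · intro hint
    by_cases h0 : (0 : R) ∈ S
    · have h := IsLocalization.map_units T ⟨0, h0⟩
      rw [map_zero] at h
      haveI : Subsingleton T := subsingleton_of_zero_eq_one (isUnit_zero_iff.1 h)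
      exact isUnit_of_subsingleton _
    obtain ⟨m, P, hP, hP'⟩ := IsIntegral.exists_multiple_integral_of_isLocalization S (Rₘ := T)
      (algebraMap A B (AdjoinRoot.root h)) (Algebra.IsIntegral.isIntegral _)
    have h1 : aeval (m.1 • algebraMap A B (AdjoinRoot.root h)) P = 0 := hP'
    rw [Algebra.smul_def, IsScalarTower.algebraMap_apply R A B, ← map_mul, aeval_algebraMap_apply] at h1
    obtain ⟨⟨_, s, hs, rfl⟩, hs'⟩ := (IsLocalization.map_eq_zero_iff (Algebra.algebraMapSubmonoid A S) B _).1 h1
    have h2 : AdjoinRoot.mk h (C s * P.comp (C m.1 * X)) = 0 := by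
      rw [← AdjoinRoot.aeval_eq, map_mul, aeval_C, aeval_comp, map_mul, aeval_C, aeval_X]
      exact hs'
    rw [AdjoinRoot.mk_eq_zero] at h2
    obtain ⟨q, hq⟩ := h2
    have hlc := congrArg Polynomial.leadingCoeff hq
    rw [leadingCoeff_mul, leadingCoeff_mul, leadingCoeff_C, leadingCoeff_comp (by
      rw [natDegree_C_mul_X _ (fun e => h0 (by rw [← e]; exact m.2))]; exact one_ne_zero),
      hP.leadingCoeff, one_mul, leadingCoeff_C_mul_X] at hlc
    have hu : IsUnit (algebraMap R T (s * m.1 ^ P.natDegree)) :=
      IsLocalization.map_units T ⟨_, S.mul_mem hs (S.pow_mem m.2 _)⟩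
    rw [hlc, map_mul] at hu
    exact isUnit_of_mul_isUnit_left hu
  · intro hu
    rcases subsingleton_or_nontrivial T with hT | hT
    · haveI : Subsingleton B := (algebraMap T B).codomain_trivial
      exact ⟨fun x => ⟨1, monic_one, Subsingleton.elim _ _⟩⟩
    obtain ⟨b, hb⟩ := hu.exists_right_inv
    have hroot : IsIntegral T (algebraMap A B (AdjoinRoot.root h)) := by
      refine ⟨h.map (algebraMap R T) * C b, ?_, ?_⟩
      · refine monic_mul_C_of_leadingCoeff_mul_eq_one ?_
        rwa [leadingCoeff_map_of_leadingCoeff_ne_zero]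
        exact fun e => zero_ne_one ((zero_mul b).symm.trans (e ▸ hb))
      · refine eval₂_mul_eq_zero_of_left _ _ _ ?_
        rw [eval₂_map, ← IsScalarTower.algebraMap_eq, ← aeval_def, aeval_algebraMap_apply,
          AdjoinRoot.aeval_eq, AdjoinRoot.mk_self, map_zero]
    have hA : ∀ a : A, IsIntegral T (algebraMap A B a) := by
      intro a
      obtain ⟨p, rfl⟩ := AdjoinRoot.mk_surjective a
      rw [← AdjoinRoot.aeval_eq, ← aeval_algebraMap_apply, ← aeval_map_algebraMap T]
      exact adjoin_le_integralClosure hroot (aeval_mem_adjoin_singleton T _)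
    refine ⟨fun x => ?_⟩
    obtain ⟨⟨a, ⟨_, s, hs, rfl⟩⟩, hx⟩ := IsLocalization.surj (Algebra.algebraMapSubmonoid A S) x
    obtain ⟨t, ht⟩ := (IsLocalization.map_units T ⟨s, hs⟩).exists_right_inv
    have : x = algebraMap A B a * algebraMap T B t := by
      rw [← hx, ← IsScalarTower.algebraMap_apply, IsScalarTower.algebraMap_apply R T B, mul_assoc,
        ← map_mul, ht, map_one, mul_one]
    rw [this]
    exact (hA a).mul isIntegral_algebraMap

end Prym13
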