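import Mathlib

/-!
Discriminants of quadratic polynomials in `z` and the ideal of the origin.
-/

set_option autoImplicit false
universe u
open MvPolynomial

namespace Prym13

variable {K : Type u} [Field K]

/-- The ideal of the origin in `K[x, y]`. -/
noncomputable abbrev m₂ (K : Type u) [Field K] : Ideal (MvPolynomial (Fin 2) K) :=
  Ideal.span (Set.range (X : Fin 2 → MvPolynomial (Fin 2) K))

/-- The ideal of the origin in `K[x, y, z]`. -/
noncomputable abbrev m₃ (K : Type u) [Field K] : Ideal (MvPolynomial (Fin 3) K) :=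
  Ideal.span (Set.range (X : Fin 3 → MvPolynomial (Fin 3) K))

theorem mem_m₂ {p : MvPolynomial (Fin 2) K} : p ∈ m₂ K ↔ constantCoeff p = 0 := by
  have h := mem_pow_idealOfVars_iff' (σ := Fin 2) (R := K) 1 p
  rw [pow_one] at h
  rw [m₂, show Ideal.span (Set.range (X : Fin 2 → MvPolynomial (Fin 2) K)) = idealOfVars (Fin 2) K from rfl, h]
  refine ⟨fun h => h 0 (by simp), fun h x hx => ?_⟩
  rw [Nat.lt_one_iff, Finsupp.degree_eq_zero_iff] at hx
  subst hx
  exact h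

/-- `z ↦ 0`. -/
noncomputable def z0 : MvPolynomial (Fin 3) K →ₐ[K] MvPolynomial (Fin 2) K := aeval ![X 0, X 1, 0]

theorem z0_rename (G : MvPolynomial (Fin 2) K) : z0 (rename Fin.castSucc G) = G := by
  rw [z0, aeval_rename]
  have : (![X 0, X 1, 0] : Fin 3 → MvPolynomial (Fin 2) K) ∘ Fin.castSucc = X := by
    funext i; fin_cases i <;> rfl
  rw [this, aeval_X_left_apply]

theorem z0_X2 : z0 (X 2 : MvPolynomial (Fin 3) K) = 0 := by simp [z0]

theorem map_z0_le : (m₃ K).map (z0 (K := K)).toRingHom ≤ m₂ K := by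
  rw [Ideal.map_le_iff_le_comap, m₃, Ideal.span_le]
  rintro _ ⟨i, rfl⟩
  refine mem_m₂.2 ?_
  show constantCoeff (z0 (X i)) = 0
  fin_cases i <;> simp [z0]

theorem map_rename_le : (m₂ K).map (rename Fin.castSucc : _ →ₐ[K] MvPolynomial (Fin 3) K).toRingHom ≤ m₃ K := by
  rw [Ideal.map_le_iff_le_comap, m₂, Ideal.span_le]
  rintro _ ⟨i, rfl⟩
  show rename Fin.castSucc (X i) ∈ m₃ K
  rw [rename_X]
  exact Ideal.subset_span ⟨_, rfl⟩

variable (G₂ G₃ G₄ : MvPolynomial (Fin 2) K)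

/-- The surface. -/
noncomputable abbrev quad : MvPolynomial (Fin 3) K :=
  rename (Fin.castSucc : Fin 2 → Fin 3) G₂ * X (2 : Fin 3) ^ 2
    + 2 * rename (Fin.castSucc : Fin 2 → Fin 3) G₃ * X (2 : Fin 3)
    + rename (Fin.castSucc : Fin 2 → Fin 3) G₄

theorem z0_quad : z0 (quad G₂ G₃ G₄) = G₄ := by simp [quad, z0_rename, z0_X2]

theorem g4_of_mem (h : quad G₂ G₃ G₄ ∈ m₃ K) : G₄ ∈ m₂ K := by
  have := map_z0_le (Ideal.mem_map_of_mem (z0 (K := K)).toRingHom h)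
  rwa [show (z0 (K := K)).toRingHom (quad G₂ G₃ G₄) = z0 (quad G₂ G₃ G₄) from rfl, z0_quad] at this

variable (h2 : (2 : K) ≠ 0)
include h2

theorem sq_iff : quad G₂ G₃ G₄ ∈ m₃ K ^ 2 ↔ G₄ ∈ m₂ K ^ 2 ∧ G₃ ∈ m₂ K := by
  constructor
  · intro h
    constructor
    · have := Ideal.mem_map_of_mem (z0 (K := K)).toRingHom h
      rw [Ideal.map_pow] at this
      have := Ideal.pow_right_mono map_z0_le 2 this
      rwa [show (z0 (K := K)).toRingHom (quad G₂ G₃ G₄) = z0 (quad G₂ G₃ G₄) from rfl, z0_quad] at this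
    · have hz : ∀ p : MvPolynomial (Fin 3) K, p ∈ m₃ K ^ 2 → pderiv 2 p ∈ m₃ K := by
        intro p hp
        rw [pow_two] at hp
        refine Submodule.mul_induction_on hp (fun a ha b hb => ?_) fun a b ha hb => ?_
        · rw [pderiv_mul]
          exact add_mem (Ideal.mul_mem_left _ _ hb) (Ideal.mul_mem_right _ _ ha)
        · rw [map_add]; exact add_mem ha hb
      have h0 : ∀ G : MvPolynomial (Fin 2) K, pderiv 2 (rename (Fin.castSucc : Fin 2 → Fin 3) G) = 0 := by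
        intro G
        induction G using MvPolynomial.induction_on with
        | C r => simp
        | add a b ha hb => simp [map_add, ha, hb]
        | mul_X a i ha =>
          rw [map_mul, pderiv_mul, ha, rename_X, zero_mul, zero_add,
            pderiv_X_of_ne (show i.castSucc ≠ (2 : Fin 3) from (Fin.castSucc_lt_last i).ne), mul_zero]
      have := map_z0_le (Ideal.mem_map_of_mem (z0 (K := K)).toRingHom (hz _ h))
      rw [mem_m₂] at this ⊢
      have h2' : constantCoeff (2 : MvPolynomial (Fin 2) K) = 2 := map_ofNat _ 2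
      have : constantCoeff (z0 (pderiv 2 (quad G₂ G₃ G₄))) = 0 := this
      have h22 : pderiv (2 : Fin 3) (2 : MvPolynomial (Fin 3) K) = 0 := by
        rw [← map_ofNat (C : K →+* MvPolynomial (Fin 3) K) 2, pderiv_C]
      simp [quad, h0, h22, z0_rename, z0_X2, map_ofNat, h2', h2] at this
      exact this
  · rintro ⟨h4, h3⟩
    have hX : (X 2 : MvPolynomial (Fin 3) K) ∈ m₃ K := Ideal.subset_span ⟨2, rfl⟩
    have h3' : rename (Fin.castSucc : Fin 2 → Fin 3) G₃ ∈ m₃ K := map_rename_le (Ideal.mem_map_of_mem _ h3)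
    have h4' : rename (Fin.castSucc : Fin 2 → Fin 3) G₄ ∈ m₃ K ^ 2 := by
      have := Ideal.mem_map_of_mem (rename Fin.castSucc : _ →ₐ[K] MvPolynomial (Fin 3) K).toRingHom h4
      rw [Ideal.map_pow] at this
      exact Ideal.pow_right_mono map_rename_le 2 this
    refine add_mem (add_mem (Ideal.mul_mem_left _ _ (Ideal.pow_mem_pow hX 2)) ?_) h4'
    rw [mul_assoc, pow_two]
    exact Ideal.mul_mem_left _ _ (Ideal.mul_mem_mul h3' hX)

theorem disc_mem_sq (h : quad G₂ G₃ G₄ ∈ m₃ K ^ 2) : G₃ ^ 2 - G₂ * G₄ ∈ m₂ K ^ 2 := by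
  obtain ⟨h4, h3⟩ := (sq_iff G₂ G₃ G₄ h2).1 h
  exact sub_mem (Ideal.pow_mem_pow h3 2) (Ideal.mul_mem_left _ _ h4)

theorem disc_iff (hQ : quad G₂ G₃ G₄ ∈ m₃ K) (hD : G₃ ^ 2 - G₂ * G₄ ∈ m₂ K) :
    G₃ ^ 2 - G₂ * G₄ ∈ m₂ K ^ 2 ↔
      (quad G₂ G₃ G₄ ∈ m₃ K ^ 2 ∨ (G₂ ∈ m₂ K ∧ G₃ ∈ m₂ K ∧ G₄ ∈ m₂ K)) := by
  have h4 := g4_of_mem G₂ G₃ G₄ hQ
  have h3 : G₃ ∈ m₂ K := by
    rw [mem_m₂] at h4 hD ⊢
    simpa [h4] using hD
  rw [sq_iff G₂ G₃ G₄ h2]
  constructor
  · intro h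
    have h24 : G₂ * G₄ ∈ m₂ K ^ 2 := by
      have := sub_mem (Ideal.pow_mem_pow h3 2) h
      rwa [sub_sub_cancel] at this
    by_cases hG₂ : G₂ ∈ m₂ K
    · exact Or.inr ⟨hG₂, h3, h4⟩
    refine Or.inl ⟨?_, h3⟩
    rw [mem_m₂] at hG₂
    have hd : G₂ - C (constantCoeff G₂) ∈ m₂ K := by rw [mem_m₂]; simp
    have : C (constantCoeff G₂) * G₄ ∈ m₂ K ^ 2 := by
      have hx : (G₂ - C (constantCoeff G₂)) * G₄ ∈ m₂ K ^ 2 := by
        rw [pow_two]; exact Ideal.mul_mem_mul hd h4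
      have := sub_mem h24 hx
      rwa [sub_mul, sub_sub_cancel] at this
    exact (Ideal.unit_mul_mem_iff_mem _ ((isUnit_iff_ne_zero.2 hG₂).map C)).1 this
  · rintro (⟨h4', -⟩ | ⟨h2', -, -⟩)
    · exact sub_mem (Ideal.pow_mem_pow h3 2) (Ideal.mul_mem_left _ _ h4')
    · refine sub_mem (Ideal.pow_mem_pow h3 2) ?_
      rw [pow_two]
      exact Ideal.mul_mem_mul h2' h4

end Prym13
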